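import Groth.Agent.Lib.AssPts.Alg
import Mathlib.RingTheory.Flat.Stability
import Mathlib.RingTheory.Flat.TorsionFree
import Mathlib.RingTheory.Ideal.GoingDown
import Mathlib.RingTheory.TensorProduct.Maps
import Mathlib.RingTheory.RingHom.Flat
import Mathlib.LinearAlgebra.TensorProduct.Basis
import Mathlib.RingTheory.Polynomial.Basic
import Mathlib.Algebra.Polynomial.Module.TensorProduct
import Mathlib.RingTheory.Nakayama
import Mathlib.Algebra.Module.LocalizedModule.Basic
import Mathlib.RingTheory.Localization.AtPrime.Basic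
import Mathlib.FieldTheory.IntermediateField.Adjoin.Basic
import Mathlib.RingTheory.PolynomialAlgebra

/-!
# Weakly associated primes of modules under extension of the ground field

Ring maps `A →+* B` along which weakly associated primes of `B ⊗[A] M` contract to weakly associated
primes of `M`, for every `A`-module `M`: localisations, finite free maps, polynomial rings, composites,
and `A → K ⊗[k] A` for every field extension `K / k`.
-/

set_option autoImplicit false
set_option linter.all false
universe u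

open TensorProduct Polynomial

namespace GrothLib.WeakAssField

open GrothLib.AssPts

variable {A B C : Type u} [CommRing A] [CommRing B] [CommRing C]

theorem weakAss_congr {M N : Type u} [AddCommGroup M] [AddCommGroup N] [Module A M] [Module A N]
    (e : M ≃ₗ[A] N) : FlatCA.weakAss A M = FlatCA.weakAss A N := by
  have key : ∀ m : M, (⊥ : Submodule A N).colon {e m} = (⊥ : Submodule A M).colon {m} := fun m => by
    ext a
    simp only [Submodule.mem_colon_singleton, Submodule.mem_bot, ← map_smul, e.map_eq_zero_iff]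
  ext p
  simp only [mem_weakAss_iff]
  exact ⟨fun ⟨m, hm⟩ => ⟨e m, (key m).symm ▸ hm⟩,
    fun ⟨n, hn⟩ => ⟨e.symm n, by rw [← key, e.apply_symm_apply]; exact hn⟩⟩

/-- Weakly associated primes of base changes of modules contract to weakly associated primes. -/
def GoodA (A B : Type u) [CommRing A] [CommRing B] [Algebra A B] : Prop :=
  ∀ (M : Type u) [AddCommGroup M] [Module A M],
    ∀ q ∈ FlatCA.weakAss B (B ⊗[A] M), q.comap (algebraMap A B) ∈ FlatCA.weakAss A M

/-- `GoodA` for a ring homomorphism. -/
def Good (φ : A →+* B) : Prop := @GoodA A B _ _ φ.toAlgebra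

theorem good_algebraMap [Algebra A B] (h : GoodA A B) : Good (algebraMap A B) := by
  have : (algebraMap A B).toAlgebra = ‹Algebra A B› := Algebra.algebra_ext _ _ fun _ => rfl
  rw [Good, this]
  exact h

/-- In a flat algebra the annihilator of `1 ⊗ n` is generated by the annihilator of `n`. -/
theorem colon_one_tmul [Algebra A B] [Module.Flat A B] {M : Type u} [AddCommGroup M] [Module A M] (n : M) :
    (⊥ : Submodule B (B ⊗[A] M)).colon {(1 : B) ⊗ₜ[A] n} =
      ((⊥ : Submodule A M).colon {n}).map (algebraMap A B) := by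
  set J : Ideal A := (⊥ : Submodule A M).colon {n} with hJ
  ext b
  rw [Submodule.mem_colon_singleton, Submodule.mem_bot, smul_tmul', smul_eq_mul, mul_one]
  constructor
  · intro h
    have hex := Module.Flat.lTensor_exact B
      (LinearMap.exact_subtype_ker_map (LinearMap.toSpanSingleton A M n))
    have h' : (LinearMap.toSpanSingleton A M n).lTensor B (b ⊗ₜ[A] (1 : A)) = 0 := by
      rw [LinearMap.lTensor_tmul, LinearMap.toSpanSingleton_apply, one_smul]; exact h
    obtain ⟨t, ht⟩ := (hex _).mp h'
    have aux : ∀ t : B ⊗[A] (LinearMap.ker (LinearMap.toSpanSingleton A M n)),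
        TensorProduct.rid A B ((Submodule.subtype _).lTensor B t) ∈ J.map (algebraMap A B) := by
      intro t
      induction t using TensorProduct.induction_on with
      | zero => simp
      | tmul c i =>
        rw [LinearMap.lTensor_tmul, TensorProduct.rid_tmul, Submodule.subtype_apply, Algebra.smul_def]
        refine Ideal.mul_mem_right _ _ (Ideal.mem_map_of_mem _ ?_)
        rw [hJ, Submodule.mem_colon_singleton, Submodule.mem_bot]
        exact i.2
      | add x y hx hy => rw [map_add, map_add]; exact add_mem hx hy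
    have := aux t
    rw [ht, TensorProduct.rid_tmul, one_smul] at this
    exact this
  · intro h
    rw [Ideal.map] at h
    induction h using Submodule.span_induction with
    | mem x hx =>
      obtain ⟨a, ha, rfl⟩ := hx
      have ha' : a • n = 0 := by simpa [hJ, Submodule.mem_colon_singleton] using ha
      rw [Algebra.algebraMap_eq_smul_one, smul_tmul, ha', tmul_zero]
    | zero => exact zero_tmul _ _
    | add x y _ _ hx hy => rw [add_tmul, hx, hy, add_zero]
    | smul c x _ hx => rw [← smul_tmul', hx, smul_zero]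

/-- Minimal primes of the extension of an ideal along a flat map contract to minimal primes. -/
theorem comap_minimal_of_flat [Algebra A B] [Module.Flat A B] {I : Ideal A} {q : Ideal B}
    (hq : q ∈ (I.map (algebraMap A B)).minimalPrimes) : q.comap (algebraMap A B) ∈ I.minimalPrimes := by
  have := hq.1.1
  refine ⟨⟨Ideal.IsPrime.comap _, Ideal.map_le_iff_le_comap.mp hq.1.2⟩, ?_⟩
  rintro p ⟨hp, hIp⟩ hpq
  have : q.LiesOver (q.comap (algebraMap A B)) := ⟨rfl⟩
  obtain ⟨Q, hQq, hQ, hQp⟩ := q.exists_ideal_le_liesOver_of_le (p := p) (q := q.comap (algebraMap A B)) hpq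
  have hIQ : I.map (algebraMap A B) ≤ Q := Ideal.map_le_iff_le_comap.mpr (hIp.trans_eq hQp.over)
  refine (Ideal.comap_mono (hq.2 ⟨hQ, hIQ⟩ hQq)).trans ?_
  rw [hQp.over]

/-- Elements that are `1 ⊗ n` up to a unit give weakly associated primes below. -/
theorem comap_mem_of_unit [Algebra A B] [Module.Flat A B] {M : Type u} [AddCommGroup M] [Module A M]
    {q : Ideal B} {z : B ⊗[A] M} (hq : q ∈ ((⊥ : Submodule B (B ⊗[A] M)).colon {z}).minimalPrimes)
    {u : B} (hu : IsUnit u) {n : M} (hz : u • z = (1 : B) ⊗ₜ[A] n) :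
    q.comap (algebraMap A B) ∈ FlatCA.weakAss A M := by
  have he : (⊥ : Submodule B (B ⊗[A] M)).colon {z} = (⊥ : Submodule B (B ⊗[A] M)).colon {u • z} := by
    ext b
    simp only [Submodule.mem_colon_singleton, Submodule.mem_bot]
    rw [smul_comm, hu.smul_eq_zero]
  rw [he, hz, colon_one_tmul] at hq
  exact mem_weakAss_iff.mpr ⟨n, comap_minimal_of_flat hq⟩

/-- Flat maps all of whose target elements come from the source up to units are good. -/
theorem goodA_of_units [Algebra A B] [Module.Flat A B]
    (h : ∀ b : B, ∃ s a : A, IsUnit (algebraMap A B s) ∧ algebraMap A B s * b = algebraMap A B a) :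
    GoodA A B := by
  intro M _ _ q hq
  obtain ⟨z, hz⟩ := mem_weakAss_iff.mp hq
  suffices ∃ (s : A) (n : M), IsUnit (algebraMap A B s) ∧ algebraMap A B s • z = (1 : B) ⊗ₜ[A] n by
    obtain ⟨s, n, hs, hn⟩ := this
    exact comap_mem_of_unit hz hs hn
  clear hz hq
  induction z using TensorProduct.induction_on with
  | zero => exact ⟨1, 0, by simp, by simp⟩
  | tmul b m =>
    obtain ⟨s, a, hs, ha⟩ := h b
    refine ⟨s, a • m, hs, ?_⟩
    rw [smul_tmul', smul_eq_mul, ha, Algebra.algebraMap_eq_smul_one, smul_tmul]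
  | add x y hx hy =>
    obtain ⟨s, n, hs, hn⟩ := hx
    obtain ⟨t, m, ht, hm⟩ := hy
    refine ⟨s * t, t • n + s • m, by simpa using hs.mul ht, ?_⟩
    rw [smul_add, tmul_add]
    congr 1
    · rw [map_mul, mul_comm, mul_smul, hn, algebraMap_smul, tmul_smul]
    · rw [map_mul, mul_smul, hm, algebraMap_smul, tmul_smul]

theorem goodA_comp [Algebra A B] [Algebra B C] [Algebra A C] [IsScalarTower A B C]
    (h₁ : GoodA A B) (h₂ : GoodA B C) : GoodA A C := by
  intro M _ _ q hq
  rw [← weakAss_congr (TensorProduct.AlgebraTensorModule.cancelBaseChange A B C C M)] at hq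
  have := h₁ M _ (h₂ (B ⊗[A] M) q hq)
  rwa [Ideal.comap_comap, ← IsScalarTower.algebraMap_eq] at this

theorem Good.comp {φ : A →+* B} {ψ : B →+* C} (h₁ : Good φ) (h₂ : Good ψ) : Good (ψ.comp φ) := by
  letI := φ.toAlgebra
  letI := ψ.toAlgebra
  letI := (ψ.comp φ).toAlgebra
  haveI : IsScalarTower A B C := IsScalarTower.of_algebraMap_eq' rfl
  exact goodA_comp h₁ h₂

theorem good_of_units {φ : A →+* B} (hfl : φ.Flat)
    (h : ∀ b : B, ∃ s a : A, IsUnit (φ s) ∧ φ s * b = φ a) : Good φ := by
  letI := φ.toAlgebra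
  haveI : Module.Flat A B := hfl
  exact goodA_of_units h

theorem good_ringEquiv (e : A ≃+* B) : Good (e : A →+* B) :=
  good_of_units (RingHom.Flat.of_bijective e.bijective)
    fun b => ⟨1, e.symm b, by simp, by simp⟩

theorem goodA_finite_free [Algebra A B] [Module.Finite A B] [Module.Free A B] : GoodA A B := by
  classical
  intro M _ _ q hq
  have hp : q.comap (algebraMap A B) ∈ FlatCA.weakAss A (B ⊗[A] M) :=
    image_subset_weakAss (fun p _ => Algebra.QuasiFinite.finite_primesOver p) ⟨q, hq, rfl⟩
  let b := Module.Free.chooseBasis A B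
  rw [weakAss_congr (TensorProduct.equivFinsuppOfBasisLeft b)] at hp
  obtain ⟨v, hv⟩ := mem_weakAss_iff.mp hp
  have hJ : (⊥ : Submodule A (Module.Free.ChooseBasisIndex A B →₀ M)).colon {v} =
      Finset.univ.inf fun i => (⊥ : Submodule A M).colon {v i} := by
    ext a
    simp [Submodule.mem_finsetInf, Submodule.mem_colon_singleton, Finsupp.ext_iff]
  rw [hJ] at hv
  obtain ⟨i, -, hi⟩ := hv.1.1.inf_le'.mp hv.1.2
  exact mem_weakAss_iff.mpr ⟨v i, ⟨hv.1.1, hi⟩,
    fun p hp hle => hv.2 ⟨hp.1, (Finset.inf_le (Finset.mem_univ i)).trans hp.2⟩ hle⟩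

/-- A relation `∑ gᵢ mⱼ = 0` in all degrees with some `gᵢ` a unit forces `m = 0` over a local ring. -/
theorem content_unit {R N : Type u} [CommRing R] [IsLocalRing R] [AddCommGroup N] [Module R N]
    (g : ℕ → R) (m : ℕ → N) (S : Finset ℕ) (hS : ∀ i ∉ S, m i = 0) (hu : ∃ a, IsUnit (g a))
    (hrel : ∀ n, ∑ x ∈ Finset.antidiagonal n, g x.1 • m x.2 = 0) : ∀ n, m n = 0 := by
  classical
  set a := Nat.find hu
  have hua : IsUnit (g a) := Nat.find_spec hu
  set N' : Submodule R N := Submodule.span R (m '' (S : Set ℕ))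
  have hmem : ∀ i, m i ∈ N' := fun i => by
    by_cases hi : i ∈ S
    · exact Submodule.subset_span ⟨i, hi, rfl⟩
    · rw [hS i hi]; exact zero_mem _
  have key : ∀ n, m n ∈ IsLocalRing.maximalIdeal R • N' := by
    intro n
    induction n using Nat.strong_induction_on with
    | _ n ih =>
      have h := hrel (a + n)
      rw [← Finset.add_sum_erase _ _ (Finset.mem_antidiagonal.mpr (rfl : (a, n).1 + (a, n).2 = a + n))] at h
      have hsum : ∑ x ∈ (Finset.antidiagonal (a + n)).erase (a, n), g x.1 • m x.2 ∈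
          IsLocalRing.maximalIdeal R • N' := by
        refine Submodule.sum_mem _ fun x hx => ?_
        obtain ⟨hne, hx⟩ := Finset.mem_erase.mp hx
        rw [Finset.mem_antidiagonal] at hx
        rcases lt_trichotomy x.1 a with h' | h' | h'
        · exact Submodule.smul_mem_smul (by simpa [IsLocalRing.mem_maximalIdeal] using Nat.find_min hu h')
            (hmem _)
        · exact absurd (Prod.ext h' (by show x.2 = n; omega)) hne
        · exact Submodule.smul_mem _ _ (ih _ (by omega))
      rw [add_eq_zero_iff_eq_neg] at h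
      have hm : g a • m n ∈ IsLocalRing.maximalIdeal R • N' := h ▸ neg_mem hsum
      obtain ⟨w, hw⟩ := hua
      rw [← hw] at hm
      simpa [← Units.smul_def] using Submodule.smul_mem _ (↑w⁻¹ : R) hm
  have hbot : N' = ⊥ := Submodule.eq_bot_of_le_smul_of_le_jacobson_bot (IsLocalRing.maximalIdeal R) N'
    (Submodule.fg_span (S.finite_toSet.image m))
    (Submodule.span_le.mpr fun _ ⟨i, _, hi⟩ => hi ▸ key i) (IsLocalRing.maximalIdeal_le_jacobson _)
  exact fun n => (Submodule.eq_bot_iff _).mp hbot _ (hmem n)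

theorem goodA_polynomial : GoodA A A[X] := by
  classical
  intro M _ _ q hq
  rw [weakAss_congr (PolynomialModule.polynomialTensorProductLEquivPolynomialModule A M)] at hq
  obtain ⟨z, hz⟩ := mem_weakAss_iff.mp hq
  have hqp : q.IsPrime := hz.1.1
  set p := q.comap (algebraMap A A[X])
  have hp : p.IsPrime := Ideal.IsPrime.comap _
  obtain ⟨n, hn⟩ : ∃ n, (⊥ : Submodule A M).colon {z.coeff n} ≤ p := by
    by_contra! h
    choose s hs hsp using fun n => SetLike.not_le_iff_exists.mp (h n)
    set t := ∏ n ∈ z.coeff.support, s n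
    have ht : algebraMap A A[X] t ∈ (⊥ : Submodule A[X] (PolynomialModule A M)).colon {z} := by
      rw [Submodule.mem_colon_singleton, Submodule.mem_bot, algebraMap_smul]
      ext i
      show t • z.coeff i = 0
      by_cases hi : i ∈ z.coeff.support
      · have := hs i
        rw [Submodule.mem_colon_singleton, Submodule.mem_bot] at this
        rw [show t = (∏ n ∈ z.coeff.support.erase i, s n) * s i from (Finset.prod_erase_mul _ _ hi).symm,
          mul_smul, this, smul_zero]
      · rw [Finsupp.notMem_support_iff.mp hi, smul_zero]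
    obtain ⟨i, -, hi⟩ := hp.prod_mem_iff.mp (hz.1.2 ht)
    exact hsp i hi
  refine mem_weakAss_iff.mpr ⟨z.coeff n, ⟨hp, hn⟩, ?_⟩
  rintro p' ⟨hp', hle⟩ hp'p
  set Q : Ideal A[X] := p'.map (Polynomial.C : A →+* A[X])
  have hQ : Q.IsPrime := Ideal.isPrime_map_C_of_isPrime
  have hQq : Q ≤ q := Ideal.map_le_iff_le_comap.mpr hp'p
  have hann : (⊥ : Submodule A[X] (PolynomialModule A M)).colon {z} ≤ Q := by
    intro g hg
    rw [Submodule.mem_colon_singleton, Submodule.mem_bot] at hg
    by_contra hgQ
    rw [Ideal.mem_map_C_iff] at hgQ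
    push Not at hgQ
    obtain ⟨a, ha⟩ := hgQ
    let R' := Localization.AtPrime p'
    let ℓ := LocalizedModule.mkLinearMap p'.primeCompl M
    have h0 := content_unit (R := R') (fun i => algebraMap A R' (g.coeff i)) (fun i => ℓ (z.coeff i))
      z.coeff.support (fun i hi => by rw [Finsupp.notMem_support_iff.mp hi, map_zero])
      ⟨a, (IsLocalization.AtPrime.isUnit_to_map_iff R' p' _).mpr ha⟩
      (fun i => by
        simp only [algebraMap_smul, ← map_smul, ← map_sum]
        rw [← PolynomialModule.smul_apply, hg]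
        exact map_zero ℓ) n
    obtain ⟨s, hs⟩ := (IsLocalizedModule.eq_zero_iff p'.primeCompl ℓ).mp h0
    exact s.2 (hle (Submodule.mem_colon_singleton.mpr ((Submodule.mem_bot _).mpr hs)))
  intro x hx
  have hxQ : Polynomial.C x ∈ Q := hz.2 ⟨hQ, hann⟩ hQq hx
  simpa using Ideal.mem_map_C_iff.mp hxQ 0

section Field

open Algebra.TensorProduct (includeRight includeLeftRingHom)

/-- `A → L ⊗[k] A`. -/
abbrev incl (k L A : Type u) [CommRing k] [CommRing L] [CommRing A] [Algebra k L] [Algebra k A] :
    A →+* L ⊗[k] A :=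
  (includeRight : A →ₐ[k] L ⊗[k] A).toRingHom

variable {k L A K : Type u} [CommRing k] [CommRing L] [CommRing A] [CommRing K] [Algebra k L] [Algebra k A]

theorem incl_eq_comm : incl k L A =
    ((Algebra.TensorProduct.comm k A L).toRingEquiv : A ⊗[k] L →+* L ⊗[k] A).comp
      (algebraMap A (A ⊗[k] L)) := by
  ext a
  simp

theorem flat_incl [Module.Flat k L] : (incl k L A).Flat := by
  rw [incl_eq_comm]
  exact ((RingHom.flat_algebraMap_iff (R := A) (S := A ⊗[k] L)).mpr inferInstance).comp
    (RingHom.Flat.of_bijective (Algebra.TensorProduct.comm k A L).toRingEquiv.bijective)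

theorem flat_map [Algebra k K] [Algebra L K] [IsScalarTower k L K] [Module.Flat L K] :
    (Algebra.TensorProduct.map (IsScalarTower.toAlgHom k L K) (AlgHom.id k A)).toRingHom.Flat := by
  have he : (Algebra.TensorProduct.map (IsScalarTower.toAlgHom k L K) (AlgHom.id k A)).toRingHom =
      ((Algebra.TensorProduct.cancelBaseChange k L K K A).toRingEquiv : K ⊗[L] (L ⊗[k] A) →+* _).comp
        (incl L K (L ⊗[k] A)) := by
    refine RingHom.ext fun t => ?_
    induction t using TensorProduct.induction_on with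
    | zero => simp
    | tmul l a => simp [Algebra.smul_def]
    | add x y hx hy => simp only [map_add, hx, hy]
  rw [he]
  exact flat_incl.comp (RingHom.Flat.of_bijective
    (Algebra.TensorProduct.cancelBaseChange k L K K A).toRingEquiv.bijective)

end Field

theorem good_incl_finite {k L A : Type u} [Field k] [Field L] [CommRing A] [Algebra k L] [Algebra k A]
    [FiniteDimensional k L] : Good (incl k L A) := by
  rw [incl_eq_comm]
  exact (good_algebraMap goodA_finite_free).comp (good_ringEquiv _)

theorem good_incl_bijective {k L A : Type u} [Field k] [Field L] [CommRing A] [Algebra k L] [Algebra k A]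
    (h : Function.Surjective (algebraMap k L)) : Good (incl k L A) := by
  refine good_of_units flat_incl fun b => ⟨1, ?_⟩
  suffices ∃ a, incl k L A a = b by
    obtain ⟨a, rfl⟩ := this
    exact ⟨a, by rw [map_one]; exact isUnit_one, by rw [map_one, one_mul]⟩
  induction b using TensorProduct.induction_on with
  | zero => exact ⟨0, map_zero _⟩
  | tmul l a =>
    obtain ⟨c, rfl⟩ := h l
    exact ⟨c • a, by simp [Algebra.algebraMap_eq_smul_one, smul_tmul]⟩
  | add x y hx hy =>
    obtain ⟨a, rfl⟩ := hx
    obtain ⟨a', rfl⟩ := hy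
    exact ⟨a + a', map_add _ _ _⟩

open IntermediateField in
theorem good_incl_simple {k L A : Type u} [Field k] [Field L] [CommRing A] [Algebra k L] [Algebra k A]
    (a : L) : Good (incl k k⟮a⟯ A) := by
  by_cases ha : IsAlgebraic k a
  · have := adjoin.finiteDimensional ha.isIntegral
    exact good_incl_finite
  set K := k⟮a⟯
  let x : K := ⟨a, mem_adjoin_simple_self k a⟩
  letI : Algebra k[X] K := (aeval x).toRingHom.toAlgebra
  haveI : IsScalarTower k k[X] K := IsScalarTower.of_algebraMap_eq fun c => ((aeval x).commutes c).symm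
  have hcoe : ∀ f : k[X], ((algebraMap k[X] K f : K) : L) = aeval a f := fun f =>
    (aeval_algHom_apply K.val x f).symm
  have hinj : Function.Injective (algebraMap k[X] K) := by
    intro f g hfg
    refine transcendental_iff_injective.mp ha ?_
    rw [← hcoe, ← hcoe, hfg]
  haveI : Module.IsTorsionFree k[X] K := Module.isTorsionFree_iff_algebraMap_injective.mpr hinj
  haveI : Module.Flat k[X] K := inferInstance
  let ψ := (Algebra.TensorProduct.map (IsScalarTower.toAlgHom k k[X] K) (AlgHom.id k A)).toRingHom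
  let e : A[X] →+* k[X] ⊗[k] A :=
    (((polyEquivTensor k A).trans (Algebra.TensorProduct.comm k A k[X])).toRingEquiv : A[X] →+* k[X] ⊗[k] A)
  have hψ : Good ψ := by
    refine good_of_units flat_map fun b => ?_
    suffices ∃ (f : k[X]) (c : k[X] ⊗[k] A), f ≠ 0 ∧ ψ (f ⊗ₜ 1) * b = ψ c by
      obtain ⟨f, c, hf, hfc⟩ := this
      refine ⟨f ⊗ₜ 1, c, ?_, hfc⟩
      have : algebraMap k[X] K f ≠ 0 := (map_ne_zero_iff _ hinj).mpr hf
      have := (isUnit_iff_ne_zero.mpr this).map
        (Algebra.TensorProduct.includeLeftRingHom : K →+* K ⊗[k] A)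
      simpa [ψ] using this
    induction b using TensorProduct.induction_on with
    | zero => exact ⟨1, 0, one_ne_zero, by simp⟩
    | tmul l c =>
      obtain ⟨f, g, hfg⟩ := (mem_adjoin_simple_iff k (l : L)).mp l.2
      by_cases hg : g = 0
      · refine ⟨1, 0, one_ne_zero, ?_⟩
        have : l = 0 := Subtype.ext (by simp [hfg, hg])
        simp [this]
      refine ⟨g, f ⊗ₜ c, hg, ?_⟩
      have hga : aeval a g ≠ 0 := fun h0 => hg (transcendental_iff_injective.mp ha (h0.trans (map_zero _).symm))
      have : algebraMap k[X] K g * l = algebraMap k[X] K f := by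
        apply Subtype.ext
        rw [IntermediateField.coe_mul, hcoe, hcoe, hfg]
        field_simp
      simp [ψ, this]
    | add u v hu hv =>
      obtain ⟨f, c, hf, hfc⟩ := hu
      obtain ⟨g, d, hg, hgd⟩ := hv
      refine ⟨f * g, (g ⊗ₜ 1) * c + (f ⊗ₜ 1) * d, mul_ne_zero hf hg, ?_⟩
      rw [map_add, map_mul, map_mul, ← hfc, ← hgd,
        show (f * g) ⊗ₜ[k] (1 : A) = (f ⊗ₜ 1) * (g ⊗ₜ 1) by simp, map_mul]
      ring
  have he : incl k K A = ψ.comp (e.comp (algebraMap A A[X])) := by
    refine RingHom.ext fun c => ?_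
    simp [ψ, e]
  rw [he]
  exact ((good_algebraMap goodA_polynomial).comp (good_ringEquiv _)).comp hψ

open IntermediateField in
theorem good_incl_fg : ∀ (n : ℕ) {k L A : Type u} [Field k] [Field L] [CommRing A] [Algebra k L]
    [Algebra k A] (s : Finset L), s.card ≤ n → adjoin k (s : Set L) = ⊤ → Good (incl k L A)
  | n, k, L, A, _, _, _, _, _, s, hcard, hs => by
    classical
    rcases s.eq_empty_or_nonempty with rfl | ⟨a, has⟩
    · refine good_incl_bijective fun l => ?_
      have : l ∈ (⊥ : IntermediateField k L) := by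
        rw [Finset.coe_empty, adjoin_empty] at hs
        exact hs ▸ mem_top
      exact mem_bot.mp this
    obtain ⟨m, rfl⟩ : ∃ m, n = m + 1 :=
      ⟨n - 1, by have := Finset.card_pos.mpr ⟨a, has⟩; omega⟩
    have hs' : adjoin k⟮a⟯ ((s.erase a : Finset L) : Set L) = ⊤ := by
      rw [← restrictScalars_eq_top_iff (K := k), adjoin_adjoin_left, Set.singleton_union, ← Finset.coe_insert,
        Finset.insert_erase has, hs]
    have h2 := good_incl_fg m (k := k⟮a⟯) (L := L) (A := k⟮a⟯ ⊗[k] A) (s.erase a)
      (by rw [Finset.card_erase_of_mem has]; omega) hs'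
    have he : incl k L A =
        ((Algebra.TensorProduct.cancelBaseChange k k⟮a⟯ L L A).toRingEquiv :
          L ⊗[k⟮a⟯] (k⟮a⟯ ⊗[k] A) →+* L ⊗[k] A).comp
          ((incl k⟮a⟯ L (k⟮a⟯ ⊗[k] A)).comp (incl k k⟮a⟯ A)) := by
      refine RingHom.ext fun c => ?_
      simp
    rw [he]
    exact ((good_incl_simple a).comp h2).comp (good_ringEquiv _)

/-- Reduction to a subextension over which the element is defined. -/
theorem comap_mem_of_descend {k L K A : Type u} [Field k] [Field L] [Field K] [CommRing A] [Algebra k L]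
    [Algebra k K] [Algebra L K] [IsScalarTower k L K] [Algebra k A] (hgood : Good (incl k L A))
    {M : Type u} [AddCommGroup M] [Module A M] :
    letI := (incl k K A).toAlgebra
    ∀ (q : Ideal (K ⊗[k] A)) (S : Finset ((K ⊗[k] A) × M)),
      q ∈ ((⊥ : Submodule (K ⊗[k] A) ((K ⊗[k] A) ⊗[A] M)).colon {∑ j ∈ S, j.1 ⊗ₜ j.2}).minimalPrimes →
      (∀ j ∈ S, ∃ c : L ⊗[k] A,
        Algebra.TensorProduct.map (IsScalarTower.toAlgHom k L K) (AlgHom.id k A) c = j.1) →
      q.comap (incl k K A) ∈ FlatCA.weakAss A M := by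
  intro q S hz hex
  letI := (incl k K A).toAlgebra
  letI := (incl k L A).toAlgebra
  letI := (Algebra.TensorProduct.map (IsScalarTower.toAlgHom k L K) (AlgHom.id k A)).toRingHom.toAlgebra
  haveI : IsScalarTower A (L ⊗[k] A) (K ⊗[k] A) := IsScalarTower.of_algebraMap_eq fun c => by
    simp [RingHom.algebraMap_toAlgebra]
  haveI : Module.Flat (L ⊗[k] A) (K ⊗[k] A) := flat_map (k := k) (L := L) (K := K) (A := A)
  classical
  choose c hc using fun j : S => hex j.1 j.2
  set v : (L ⊗[k] A) ⊗[A] M := ∑ j : S, c j ⊗ₜ j.1.2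
  let e := TensorProduct.AlgebraTensorModule.cancelBaseChange A (L ⊗[k] A) (K ⊗[k] A) (K ⊗[k] A) M
  have hv : e ((1 : K ⊗[k] A) ⊗ₜ[L ⊗[k] A] v) = ∑ j ∈ S, j.1 ⊗ₜ j.2 := by
    rw [tmul_sum, map_sum, ← Finset.sum_coe_sort S]
    refine Finset.sum_congr rfl fun j _ => ?_
    rw [TensorProduct.AlgebraTensorModule.cancelBaseChange_tmul, Algebra.smul_def, mul_one,
      RingHom.algebraMap_toAlgebra]
    exact congrArg (· ⊗ₜ j.1.2) (hc j)
  have hz' : q ∈ ((⊥ : Submodule (K ⊗[k] A) _).colon {(1 : K ⊗[k] A) ⊗ₜ[L ⊗[k] A] v}).minimalPrimes := by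
    convert hz using 2
    ext b
    simp only [Submodule.mem_colon_singleton, Submodule.mem_bot]
    rw [← e.map_eq_zero_iff, map_smul, hv]
  have h2 := hgood M _ (comap_mem_of_unit hz' isUnit_one (one_smul _ _))
  rwa [Ideal.comap_comap, ← IsScalarTower.algebraMap_eq] at h2

open IntermediateField in
/-- **Field extensions**: weakly associated primes of `M_K` lie over weakly associated primes of `M`. -/
theorem good_incl {k K A : Type u} [Field k] [Field K] [CommRing A] [Algebra k K] [Algebra k A] :
    Good (incl k K A) := by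
  classical
  letI := (incl k K A).toAlgebra
  intro M _ _ q hq
  obtain ⟨z, hz⟩ := mem_weakAss_iff.mp hq
  have hgen : ∀ b : K ⊗[k] A, ∃ s : Finset K, ∀ L : IntermediateField k K, (s : Set K) ⊆ L →
      b ∈ (Algebra.TensorProduct.map L.val (AlgHom.id k A)).range := by
    intro b
    induction b using TensorProduct.induction_on with
    | zero => exact ⟨∅, fun L _ => zero_mem _⟩
    | tmul l c =>
      exact ⟨{l}, fun L hL => ⟨(⟨l, hL (Finset.mem_coe.mpr (Finset.mem_singleton_self l))⟩ : L) ⊗ₜ c, by simp⟩⟩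
    | add u v hu hv =>
      obtain ⟨s, hs⟩ := hu
      obtain ⟨t, ht⟩ := hv
      exact ⟨s ∪ t, fun L hL => add_mem (hs L fun x hx => hL (by simp [Finset.mem_coe.mp hx]))
        (ht L fun x hx => hL (by simp [Finset.mem_coe.mp hx]))⟩
  obtain ⟨S, hS⟩ := TensorProduct.exists_finset z
  choose t ht using hgen
  set s : Finset K := S.biUnion fun j => t j.1
  set L : IntermediateField k K := adjoin k (s : Set K)
  have hgood : Good (incl k L A) := by
    have hfin : adjoin k (((s.attach.image fun x => (⟨x.1, subset_adjoin k _ x.2⟩ : L)) : Finset L) : Set L) = ⊤ := by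
      apply map_injective L.val
      rw [adjoin_map, ← AlgHom.fieldRange_eq_map]
      refine Eq.trans ?_ L.fieldRange_val.symm
      congr 1
      ext x
      constructor
      · rintro ⟨y, hy, rfl⟩
        obtain ⟨z, -, rfl⟩ := Finset.mem_image.mp (Finset.mem_coe.mp hy)
        exact z.2
      · intro hx
        exact ⟨⟨x, subset_adjoin k _ hx⟩, Finset.mem_coe.mpr (Finset.mem_image.mpr ⟨⟨x, hx⟩, Finset.mem_attach _ _, rfl⟩), rfl⟩
    exact good_incl_fg _ _ le_rfl hfin
  refine comap_mem_of_descend hgood q S (hS ▸ hz) fun j hj => ?_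
  obtain ⟨c, hc⟩ := ht j.1 L fun x hx => subset_adjoin k _ (Finset.mem_coe.mpr
    (Finset.mem_biUnion.mpr ⟨j, hj, Finset.mem_coe.mp hx⟩))
  exact ⟨c, hc⟩

end GrothLib.WeakAssField
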